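import Cfsg.Agent.H208.PiExc.Fus
import Cfsg.Agent.H326.PiC.Main
import Cfsg.Agent.H249.Pi.FldType
import Cfsg.Agent.H73.Pi.PolF4
import Cfsg.Agent.H944.RootVals
import Cfsg.Agent.S1062

/-!
# S4324: the condition `CY` for `F₄(q)` (helper73)

* `eleven_le` : a prime `3 ≤ r` which does not divide `|F₄(q)|` is at least `11`;
* `le_of_totient` : `φ(n) ≤ 4` implies `n ≤ 12`;
* `fus_le` : the fusion bound `12` for inner automorphisms;
* `exists_fieldInner` : in odd characteristic every automorphism of `F₄(F)` is inner times field (proof of helper470);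
* `cy_F4`, `CY_F4` : the condition `CY`.
-/

set_option autoImplicit false
set_option linter.unusedSectionVars false

namespace Cfsg.Agent.H73.Pi.CyF4

open Cfsg Subgroup Cfsg.Agent.H216.Pi Cfsg.Lie Cfsg.Lie.ChevalleyDatum

section Num

/-- a prime `3 ≤ r` which does not divide the order of `F₄(q)` is at least `11` -/
theorem eleven_le {F : Type*} [Field F] [Fintype F] {r : ℕ} (hr : r.Prime) (h3 : 3 ≤ r)
    (h : ¬ r ∣ Nat.card ↥(chevF4.group F)) : 11 ≤ r := by
  by_contra hlt
  rw [S1062.result rfl] at h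
  obtain ⟨q, hq⟩ : ∃ q, q = Fintype.card F := ⟨_, rfl⟩
  rw [← hq] at h
  have hF : Fact r.Prime := ⟨hr⟩
  have hrq : ¬ r ∣ q := by
    intro h1
    apply h
    refine (h1.trans (dvd_pow_self q (by norm_num : 24 ≠ 0))).trans ?_
    exact ⟨(q ^ 2 - 1) * (q ^ 6 - 1) * (q ^ 8 - 1) * (q ^ 12 - 1), by ring⟩
  have hq0 : (q : ZMod r) ≠ 0 := by
    rwa [Ne, ZMod.natCast_eq_zero_iff]
  have key : ∀ d : ℕ, r - 1 ∣ d → r ∣ q ^ d - 1 := by
    intro d hd
    have h1 : (q : ZMod r) ^ d = 1 := by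
      obtain ⟨c, rfl⟩ := hd
      rw [pow_mul, ZMod.pow_card_sub_one_eq_one hq0, one_pow]
    have h2 : 1 ≤ q ^ d := Nat.one_le_pow _ _ (Nat.pos_of_ne_zero fun h0 => by rw [h0] at hq0; simp at hq0)
    rw [← ZMod.natCast_eq_zero_iff, Nat.cast_sub h2]
    push_cast
    rw [h1, sub_self]
  have hr' : r = 3 ∨ r = 5 ∨ r = 7 := by
    have h10 : r ≤ 10 := by omega
    clear key hq0 hrq h hF
    interval_cases r
    all_goals first
      | omega
      | (exfalso; revert hr; norm_num)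
  apply h
  rcases hr' with rfl | rfl | rfl
  · exact (key 2 (by norm_num)).trans ⟨q ^ 24 * (q ^ 6 - 1) * (q ^ 8 - 1) * (q ^ 12 - 1), by ring⟩
  · exact (key 8 (by norm_num)).trans ⟨q ^ 24 * (q ^ 2 - 1) * (q ^ 6 - 1) * (q ^ 12 - 1), by ring⟩
  · exact (key 6 (by norm_num)).trans ⟨q ^ 24 * (q ^ 2 - 1) * (q ^ 8 - 1) * (q ^ 12 - 1), by ring⟩

theorem totient_of_dvd {n p k : ℕ} (hn : 0 < n) (hp : p.Prime) (h : p ^ (k + 1) ∣ n) (h4 : n.totient ≤ 4) :
    p ^ k * (p - 1) ≤ 4 := by
  have h1 : (p ^ (k + 1)).totient ∣ n.totient := Nat.totient_dvd_of_dvd h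
  rw [Nat.totient_prime_pow_succ hp] at h1
  exact (Nat.le_of_dvd (Nat.totient_pos.2 hn) h1).trans h4

/-- `φ(n) ≤ 4` implies `n ≤ 12` -/
theorem le_of_totient {n : ℕ} (h : n.totient ≤ 4) : n ≤ 12 := by
  rcases Nat.eq_zero_or_pos n with rfl | hn
  · omega
  -- `n` divides `2 ^ 3 * 3 * 5 = 120`
  have hdvd : n ∣ 120 := by
    rw [Nat.dvd_iff_prime_pow_dvd_dvd]
    intro p k hp hk
    rcases k with _ | k
    · simp
    have h1 := totient_of_dvd hn hp hk h
    have hp5 : p ≤ 5 := by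
      have h2 : 1 ≤ p ^ k := Nat.one_le_pow _ _ hp.pos
      have h3 : 1 * (p - 1) ≤ p ^ k * (p - 1) := Nat.mul_le_mul_right _ h2
      omega
    have h2 := hp.two_le
    have hk2 : k ≤ 2 := by
      by_contra hcon
      have h3 : 2 ^ 3 ≤ p ^ k := (Nat.pow_le_pow_left h2 3).trans (Nat.pow_le_pow_right hp.pos (by omega))
      have h4 : 2 ^ 3 * 1 ≤ p ^ k * (p - 1) := Nat.mul_le_mul h3 (by omega)
      omega
    interval_cases p
    · interval_cases k <;> norm_num
    · interval_cases k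
      · norm_num
      · omega
      · omega
    · revert hp; norm_num
    · interval_cases k
      · norm_num
      · omega
      · omega
  by_contra hlt
  have hle : n ≤ 120 := Nat.le_of_dvd (by norm_num) hdvd
  have hmem : n ∈ Nat.divisors 120 := by simp [hdvd]
  have hall : ∀ m ∈ Nat.divisors 120, m.totient ≤ 4 → m ≤ 12 := by decide +kernel
  exact hlt (hall n hmem h)

end Num

section Fusion

open Cfsg.Agent.Nodes.RGDChev Cfsg.Agent.BpExc.TowChev Cfsg.Agent.BpExc Cfsg.Agent.GpExc.Field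
open Cfsg.Agent.H208.PiExc Cfsg.Agent.H296.Core

/-- **The fusion bound for inner automorphisms.** -/
theorem fus_le {F : Type*} [Field F] [Finite F] {t : ℕ} [Fact t.Prime] [CharP F t] {s : ℕ} (hs : s.Prime) (hst : s ≠ t)
    (c : ↥(chevF4.group F)) {y : ↥(chevF4.group F)} (hy : orderOf y = s) : fus (MulAut.conj c) y ≤ 12 := by
  have h1 := charP_closure F t
  have hk := locFin_closure F t
  have hA := Cfsg.Agent.H944.RootVals.hAlg_closure t F
  have hp : IsType chevF4 4 CoxeterMatrix.F₄ := Cfsg.Agent.BpExc.RowsUntw.f4T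
  have hP : PW hp (fun _ => True) := ⟨trivial, fun _ _ _ _ => trivial, fun _ _ => trivial, fun _ => trivial⟩
  obtain ⟨h2, -⟩ := fus_alg (r := t) (k := AlgebraicClosure F) hP hk hA hs hst
    (ι := emb hp.inList (algebraMap F (AlgebraicClosure F))) (emb_injective hp.inList _) (x := MulAut.conj c)
    ⟨MulAut.conj (emb hp.inList (algebraMap F (AlgebraicClosure F)) c), AlgP.conj hP _, fun a => by
      rw [MulAut.conj_apply, MulAut.conj_apply, map_mul, map_mul, map_inv]⟩ hy
  exact le_of_totient h2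

end Fusion

section Aut

open Cfsg.Agent.ChevalleyStructure Cfsg.Agent.ChevalleyStructure.Elts Cfsg.Agent.H79.SimpleGen
  Cfsg.Agent.H79.OutChev Cfsg.Agent.H79.FieldAuts Cfsg.Agent.H79.DiagAuts Cfsg.Agent.H79.FieldParam
  Cfsg.Agent.H79.EdgeSymm Cfsg.Agent.H79.DiagSymm Cfsg.Agent.H296.FFour

/-- odd characteristic: every automorphism is inner times field (the proof is helper470's, `H470.PiRad.NRF4`) -/
theorem exists_fieldInner {F : Type} [Field F] [Fintype F] (h2 : ringChar F ≠ 2) (θ : MulAut ↥(chevF4.group F)) :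
    ∃ (a : ↥(chevF4.group F)) (σ : RingAut F), θ = MulAut.conj a * fieldHom hp4.inList F σ := by
  have hD : InList chevF4 := hp4.inList
  obtain ⟨x, π, -, -, h1, h2'⟩ := H70.ChevFix.exists_conj_perm hD θ
  set φ := MulAut.conj x * θ with hφdef
  have hφ : H70.ChevField.Perm chevF4 F φ π := ⟨h1, h2'⟩
  obtain ⟨c, σ, hc, hpos, hneg, hrel⟩ := H70.ChevField.exists_field hD hφ
  have hedge : EdgePres chevF4 π := fun i j hij => H70.ChevField.cartan_eq_zero_iff hφ hD hij
  have hr : 0 < chevF4.rank := (RootComb.good_of_mem hD).rank_pos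
  have hπ1 : π = 1 := by
    have h6 := edge_F4 hedge
    simp only [List.mem_cons, List.not_mem_nil, or_false] at h6
    rcases h6 with h6 | h7
    · have e0 : imgs (1 : Equiv.Perm (Fin chevF4.rank)) = [0, 1, 2, 3] := imgs_one
      exact eq_of_imgs (h6.trans e0.symm)
    · exfalso
      have p1 : ((π ⟨1, by decide⟩ : Fin chevF4.rank) : ℕ) = 2 := by rw [← imgs_getD, h7]; rfl
      have p2 : ((π ⟨2, by decide⟩ : Fin chevF4.rank) : ℕ) = 1 := by rw [← imgs_getD, h7]; rfl
      have r12 := (show Rel chevF4 π σ from hrel).pow_eq (i := ⟨1, by decide⟩) (j := ⟨2, by decide⟩) (k := 2)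
        (by decide) (by decide +kernel) (by rw [p1, p2]; decide +kernel)
      exact h2 (two_of_sq r12)
  subst hπ1
  obtain ⟨τ, hτ⟩ := exists_tau hD hr hedge hrel
  obtain ⟨δ, hδ, hδd⟩ := exists_isD (F := F) hD (fun j => Units.mk0 (c j) (hc _))
  let f : MulAut ↥(chevF4.group F) := fieldHom hD F τ
  have hτ' : ∀ i t, σ i t = τ t := fun i t => by
    rw [hτ i t, Equiv.Perm.one_apply, graphExp_self, pow_one]
  have hg : φ = δ * f := by
    apply equiv_ext hD
    · intro i hi t
      have e1 : φ (xS hD (chevF4.simple i) t) = xS hD (chevF4.simple i) (c ⟨i, hi⟩ * σ ⟨i, hi⟩ t) := hpos ⟨i, hi⟩ t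
      rw [e1, MulAut.mul_apply, fieldHom_xS hD _ (simple_lt hD hi), hτ']
      exact ((hδ ⟨i, hi⟩ (τ t)).1).symm
    · intro i hi t
      have e1 : φ (xS hD (chevF4.neg (chevF4.simple i)) t) =
          xS hD (chevF4.neg (chevF4.simple i)) ((c ⟨i, hi⟩)⁻¹ * σ ⟨i, hi⟩ t) := hneg ⟨i, hi⟩ t
      rw [e1, MulAut.mul_apply, fieldHom_xS hD _ (neg_simple_lt hD hi), hτ']
      have := (hδ ⟨i, hi⟩ (τ t)).2
      simp only [Units.val_inv_eq_inv_val, Units.val_mk0] at this
      exact this.symm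
  obtain ⟨b, rfl⟩ := H73.Pi.PolF4.inner_of_diag hδd
  refine ⟨x⁻¹ * b, τ, ?_⟩
  rw [map_mul, mul_assoc]
  rw [← hg, hφdef, ← mul_assoc, ← map_mul, inv_mul_cancel, map_one, one_mul]

end Aut

section Row

open Cfsg.Agent.ChevalleyStructure Cfsg.Agent.H79.FieldAuts Cfsg.Agent.H249.Pi.FldType Cfsg.Agent.H296.FFour

/-- automorphisms of prime order with `FC s m x`, `10 ≤ m`: inner -/
theorem inner_of_FC {F : Type} [Field F] [Fintype F] {t : ℕ} [Fact t.Prime] [CharP F t] {x : MulAut ↥(chevF4.group F)} (hx : (orderOf x).Prime) {s m : ℕ} (hs : s.Prime)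
    (hd : s ∣ Nat.card ↥(chevF4.group F)) (hm : 10 ≤ m) (hF : FC s m x) :
    ∃ c : ↥(chevF4.group F), x = MulAut.conj c := by
  have hnc : ¬ IsMulCommutative ↥(chevF4.group F) := (S1054.result chevF4 (by simp)).2
  have hsim : IsSimpleGroup ↥(chevF4.group F) := (S1054.result chevF4 (by simp)).1
  have hZ : center ↥(chevF4.group F) = ⊥ := by
    refine Cfsg.Agent.KFacts.RgdLieCharP.center_eq_bot ?_
    by_contra hcon
    push Not at hcon
    exact hnc ⟨⟨hcon⟩⟩
  obtain ⟨a, σ, hxa⟩ : ∃ (a : ↥(chevF4.group F)) (σ : RingAut F), x = MulAut.conj a * fieldHom hp4.inList F σ := by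
    by_cases ht2 : t = 2
    · subst ht2
      exact H73.Pi.PolF4.fieldInner_of_FC hx hs hd (le_trans (by norm_num) hm) hF
    · exact exists_fieldInner (by rw [ringChar.eq F t]; exact ht2) x
  by_cases hσ : fieldHom hp4.inList F σ = 1
  · exact ⟨a, by rw [hxa, hσ, mul_one]⟩
  · exfalso
    have hE : Ex5 chevF4 := by simp [Ex5]
    have h1 : ∀ z : ↥(chevF4.group F), Cfsg.Agent.H216.Pi.InC (2 * chevF4.rank + 2) x (MulAut.conj z) := by
      intro z
      refine inC_of_field hE hx (pow_orderOf_eq_one x) (y := a) (d := 1) (φ := fieldHom hp4.inList F σ)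
        ?_ ?_ hσ (fun b => ?_) z
      · exact ⟨fun _ => 1, ⟨fun _ _ => by simp, fun _ _ _ _ _ _ => by simp⟩, fun g => by
          have e : chevF4.charDiag F (fun _ => 1) = 1 := by
            unfold charDiag
            ext i j
            rcases i with i | i <;> rcases j with j | j <;> simp [Matrix.diagonal_apply, Matrix.one_apply]
          simp [e]⟩
      · exact (isFieldAut_iff hp4.inList _).2 ⟨σ, rfl⟩
      · rw [hxa]
        rfl
    exact not_fc_of_all hs hd hZ h1 (hF.mono hm)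

/-- **The condition `CY` for `F₄(q)`.** -/
theorem cy_F4 {F : Type} [Field F] [Fintype F] {t : ℕ} [Fact t.Prime] [CharP F t] : CY t ↥(chevF4.group F) := by
  intro s r x hs hr hr3 hrs hrK hst hd hcyc hx hxs _ _ hFC
  have hsim : IsSimpleGroup ↥(chevF4.group F) := (S1054.result chevF4 (by simp)).1
  have h11 := eleven_le hr hr3 hrK
  have hnc : ¬ IsMulCommutative ↥(chevF4.group F) := (S1054.result chevF4 (by simp)).2
  obtain ⟨c, rfl⟩ := inner_of_FC (t := t) hx hs hd (le_trans (by norm_num) (mm_ge r)) hFC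
  have : Fact s.Prime := ⟨hs⟩
  obtain ⟨y, hy⟩ := exists_prime_orderOf_dvd_card' (G := ↥(chevF4.group F)) s hd
  have h12 : 12 ≤ mm r := by
    unfold mm
    omega
  exact H326.PiC.false_of_fus hnc hs hcyc hx hxs hy ((fus_le hs hst c hy).trans h12) hFC

/-- transport of `CY` -/
theorem cy_congr {K L : Type*} [Group K] [Group L] [Finite K] [Finite L] (e : K ≃* L) {t : ℕ} (h : CY t L) :
    CY t K := by
  intro s r x hs hr hr3 hrs hrK hst hsK hP hx hxs hxr hPC hFC
  have : Fact s.Prime := ⟨hs⟩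
  have hcard : Nat.card L = Nat.card K := (Nat.card_congr e.toEquiv).symm
  have ho : orderOf (H459.Rad.tr e x) = orderOf x := H459.Rad.orderOf_tr e x
  refine h s r (H459.Rad.tr e x) hs hr hr3 hrs (by rwa [hcard]) hst (by rwa [hcard]) (fun P => ?_)
    (by rw [ho]; exact hx) (by rw [ho]; exact hxs) (by rw [ho]; exact hxr) (hPC.tr e) (hFC.tr e)
  have h1 : IsPGroup s ↥((P : Subgroup L).map e.symm.toMonoidHom) := P.2.map _
  obtain ⟨Q, hQ⟩ := h1.exists_le_sylow
  have h2 : IsCyclic ↥((P : Subgroup L).map e.symm.toMonoidHom) := by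
    have := hP Q
    exact isCyclic_of_injective (Subgroup.inclusion hQ) (Subgroup.inclusion_injective hQ)
  have e2 := (P : Subgroup L).equivMapOfInjective e.symm.toMonoidHom e.symm.injective
  exact isCyclic_of_surjective e2.symm e2.symm.surjective

/-- the field `f4`, part `cy`, of `H809.Pi.Rows` -/
theorem CY_F4 (t : ℕ) (K : Type) [Group K] [Finite K] (ht : t.Prime)
    (h : ∃ (F : Type) (_ : Field F) (_ : Fintype F) (_ : CharP F t), Nonempty (K ≃* Lie.chevF4.group F)) : CY t K := by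
  obtain ⟨F, _, _, hC, ⟨e⟩⟩ := h
  have : Fact t.Prime := ⟨ht⟩
  exact cy_congr e cy_F4

end Row

end Cfsg.Agent.H73.Pi.CyF4
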